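import Cfsg.Agent.H817.DPi.Def
import Cfsg.Agent.H807.El.Mathieu
import Cfsg.Agent.H729.PairMathieu
import Cfsg.Agent.H934.OutB
import Cfsg.Agent.S0243
import Cfsg.Agent.S0249
import Cfsg.Agent.S0813
import Cfsg.Agent.S2060
import Cfsg.Agent.S2063
import Cfsg.Agent.ClassicalGeometry.PSL2Basic

/-!
# S4247, task RS (helper807): `RowE π X` for `PSL_3(2)`, `PSL_5(2)`, `M11`, `M23`

* `rowE_of_index` : `RowE π X` for a non-abelian simple group with `|Out X| ≤ 2`, `2 ∉ π`.
-/

set_option autoImplicit false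

namespace Cfsg.Agent.H807.DPi

open Subgroup Cfsg Cfsg.Agent.H988.CPi Cfsg.Agent.H571.RV Cfsg.Agent.H817.DPi

universe u

variable {π : Set ℕ}

theorem conj_injective {X : Type*} [Group X] [IsSimpleGroup X] (hna : ¬ IsMulCommutative X) :
    Function.Injective (MulAut.conj : X →* MulAut X) := by
  rw [← MonoidHom.ker_eq_bot_iff]
  rcases IsSimpleGroup.eq_bot_or_eq_top_of_normal (MulAut.conj : X →* MulAut X).ker inferInstance with h | h
  · exact h
  · exfalso
    apply hna
    refine ⟨⟨fun a b => ?_⟩⟩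
    have h1 : a ∈ (MulAut.conj : X →* MulAut X).ker := by rw [h]; exact Subgroup.mem_top _
    have h2 := DFunLike.congr_fun ((MonoidHom.mem_ker).1 h1) b
    rw [MulAut.conj_apply, MulAut.one_apply] at h2
    exact mul_inv_eq_iff_eq_mul.1 h2

/-- `RowE π X` if `|Out X| ≤ 2` and `2 ∉ π` -/
theorem rowE_of_index {X : Type*} [Group X] [Finite X] [IsSimpleGroup X] (hna : ¬ IsMulCommutative X) (h2 : 2 ∉ π)
    (hO : (inn X).index ≤ 2) : RowE π X := by
  intro hD P hP
  have hinj := conj_injective hna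
  -- `P ≤ Inn X`
  have hle : P ≤ inn X := by
    rw [← Subgroup.relIndex_eq_one]
    have h1 : (inn X).relIndex P ∣ (inn X).index := Subgroup.relIndex_dvd_index_of_normal _ _
    have h3 : (inn X).relIndex P ∣ Nat.card P := Subgroup.relIndex_dvd_card _ _
    have h4 : (inn X).index ≠ 0 := Subgroup.index_ne_zero_of_finite
    have h5 : (inn X).relIndex P ≤ 2 := (Nat.le_of_dvd (Nat.pos_of_ne_zero h4) h1).trans hO
    have h6 : (inn X).relIndex P ≠ 0 := by
      intro h
      rw [h] at h1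
      exact h4 (Nat.eq_zero_of_zero_dvd h1)
    have h7 : (inn X).relIndex P ≠ 2 := fun h => h2 (hP 2 Nat.prime_two (h ▸ h3))
    omega
  have hK : PiN π (Nat.card (P.comap (MulAut.conj : X →* MulAut X))) := by
    have h1 : Nat.card (P.comap (MulAut.conj : X →* MulAut X)) ∣ Nat.card P := by
      have h3 : Nat.card ((P.comap (MulAut.conj : X →* MulAut X)).map (MulAut.conj : X →* MulAut X)) =
          Nat.card (P.comap (MulAut.conj : X →* MulAut X)) := Nat.card_congr (Equiv.ofBijective _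
            (by
              refine ⟨?_, ?_⟩
              rotate_left
              · exact ((P.comap (MulAut.conj : X →* MulAut X)).equivMapOfInjective _ hinj).symm.surjective
              · exact ((P.comap (MulAut.conj : X →* MulAut X)).equivMapOfInjective _ hinj).symm.injective))
      rw [← h3]
      exact Subgroup.card_dvd_of_le (Subgroup.map_comap_le _ _)
    exact hP.of_dvd h1
  obtain ⟨H, hH, hKH⟩ := Cfsg.Agent.H571.RV.Dom.pi_le hD _ hK
  refine ⟨H, hH, fun α hα => ?_⟩
  obtain ⟨g, rfl⟩ := hle hα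
  have hg : g ∈ H := hKH hα
  rw [mem_stab]
  ext x
  constructor
  · rintro ⟨y, hy, rfl⟩
    exact mul_mem (mul_mem hg hy) (inv_mem hg)
  · intro hx
    refine ⟨g⁻¹ * x * g, mul_mem (mul_mem (inv_mem hg) hx) hg, ?_⟩
    show g * (g⁻¹ * x * g) * g⁻¹ = x
    group

theorem index_inn {X : Type u} [Group X] [Finite X] {n : ℕ} (h : Nat.card (Cfsg.Out X) = n) : (inn X).index = n := by
  rw [← h]
  rfl

theorem RowE_congr {X Y : Type*} [Group X] [Group Y] (e : X ≃* Y) (h : (inn Y).index ≤ 2) : (inn X).index ≤ 2 := by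
  refine le_of_eq_of_le ?_ h
  have h1 : (inn X).map (MulAut.congr e).toMonoidHom = inn Y := by
    ext α
    constructor
    · rintro ⟨β, ⟨x, rfl⟩, rfl⟩
      refine ⟨e x, ?_⟩
      ext y
      simp [MulAut.congr]
    · rintro ⟨y, rfl⟩
      refine ⟨MulAut.conj (e.symm y), ⟨e.symm y, rfl⟩, ?_⟩
      ext z
      simp [MulAut.congr]
  rw [← h1]
  exact (Subgroup.index_map_equiv (inn X) (MulAut.congr e)).symm

theorem card_pgl {F : Type} [Field F] [Fintype F] {n : ℕ} (hn : 2 ≤ n) : Nat.card (Matrix.ProjGenLinGroup (Fin n) F) =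
    Nat.gcd n (Fintype.card F - 1) * Nat.card (Matrix.ProjectiveSpecialLinearGroup (Fin n) F) := by
  classical
  haveI : NeZero n := ⟨by omega⟩
  have h1 := Cfsg.Agent.S0243.result (F := F) rfl n hn
  have h2 : Nat.card (Matrix.ProjGenLinGroup (Fin n) F) * (Fintype.card F - 1) = Nat.card (Matrix.GeneralLinearGroup (Fin n) F) :=
    Cfsg.Agent.ClassicalGeometry.PSL2Basic.card_PGL_mul (Fin n) F
  rw [Matrix.card_GL_field, ← h1] at h2
  have h3 : 0 < Fintype.card F - 1 := by
    have := Fintype.one_lt_card (α := F)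
    omega
  have h4 : Nat.card (Matrix.ProjGenLinGroup (Fin n) F) * (Fintype.card F - 1) =
    (Nat.gcd n (Fintype.card F - 1) * Nat.card (Matrix.ProjectiveSpecialLinearGroup (Fin n) F)) *
      (Fintype.card F - 1) := by
    rw [h2]; ring
  exact Nat.eq_of_mul_eq_mul_right h3 h4

theorem not_comm_of_ne_prime {X : Type*} [Group X] [Finite X] [IsSimpleGroup X] (h : ¬ (Nat.card X).Prime) :
    ¬ IsMulCommutative X := by
  intro hc
  apply h
  let _ : CommGroup X := { (inferInstance : Group X) with mul_comm := fun a b => hc.is_comm.comm a b }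
  have : IsSimpleGroup X := inferInstance
  exact IsSimpleGroup.prime_card

theorem card_three : Nat.card (Matrix.ProjectiveSpecialLinearGroup (Fin 3) (ZMod 2)) = 168 := by
  have h2 := Cfsg.Agent.S0243.result (F := ZMod 2) (ZMod.card 2) 3 (by omega)
  rw [Fin.prod_univ_three] at h2
  generalize Nat.card (Matrix.ProjectiveSpecialLinearGroup (Fin 3) (ZMod 2)) = n at h2 ⊢
  norm_num at h2
  exact h2

theorem card_five : Nat.card (Matrix.ProjectiveSpecialLinearGroup (Fin 5) (ZMod 2)) = 9999360 := by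
  have h2 := Cfsg.Agent.S0243.result (F := ZMod 2) (ZMod.card 2) 5 (by omega)
  rw [Fin.prod_univ_five] at h2
  generalize Nat.card (Matrix.ProjectiveSpecialLinearGroup (Fin 5) (ZMod 2)) = n at h2 ⊢
  norm_num at h2
  exact h2

theorem index_psl {n : ℕ} (hn : 3 ≤ n)
    (hna : ¬ IsMulCommutative (Matrix.ProjectiveSpecialLinearGroup (Fin n) (ZMod 2))) :
    (inn (Matrix.ProjectiveSpecialLinearGroup (Fin n) (ZMod 2))).index ≤ 2 := by
  have h0 : IsSimpleGroup (Matrix.ProjectiveSpecialLinearGroup (Fin n) (ZMod 2)) := Cfsg.Agent.S0249.result n hn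
  have h1 := Cfsg.Agent.S0813.result 2 1 le_rfl (ZMod.card 2) n (by omega) (by omega)
  rw [card_pgl (by omega), if_neg (by omega), ZMod.card, Nat.gcd_one_right, one_mul, mul_one] at h1
  exact (index_inn (H934.OutB.card_out_of_aut hna h1)).le

theorem rowE_of_equiv {X Y : Type*} [Group X] [Finite X] [Group Y] (e : X ≃* Y) (hs : IsSimpleGroup Y)
    (hp : ¬ (Nat.card Y).Prime) (h2 : 2 ∉ π) (h : (inn Y).index ≤ 2) : RowE π X := by
  have h1 : IsSimpleGroup X := (MulEquiv.isSimpleGroup_congr e).2 hs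
  exact rowE_of_index (not_comm_of_ne_prime (by rwa [Nat.card_congr e.toEquiv])) h2 (RowE_congr e h)

/-- **Task RS.** -/
theorem rowE_small {X : Type u} [Group X] [Finite X] (h2 : 2 ∉ π)
    (h : Nonempty (X ≃* Matrix.ProjectiveSpecialLinearGroup (Fin 3) (ZMod 2)) ∨
      Nonempty (X ≃* Matrix.ProjectiveSpecialLinearGroup (Fin 5) (ZMod 2)) ∨ Spor.IsoM11 X ∨ Spor.IsoM23 X) :
    RowE π X := by
  rcases h with ⟨⟨e⟩⟩ | ⟨⟨e⟩⟩ | ⟨⟨e⟩⟩ | ⟨⟨e⟩⟩
  · have hs : IsSimpleGroup (Matrix.ProjectiveSpecialLinearGroup (Fin 3) (ZMod 2)) := Cfsg.Agent.S0249.result 3 le_rfl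
    have hp : ¬ (Nat.card (Matrix.ProjectiveSpecialLinearGroup (Fin 3) (ZMod 2))).Prime := by rw [card_three]; norm_num
    exact rowE_of_equiv e hs hp h2 (index_psl le_rfl (not_comm_of_ne_prime hp))
  · have hs : IsSimpleGroup (Matrix.ProjectiveSpecialLinearGroup (Fin 5) (ZMod 2)) := Cfsg.Agent.S0249.result 5 (by omega)
    have hp : ¬ (Nat.card (Matrix.ProjectiveSpecialLinearGroup (Fin 5) (ZMod 2))).Prime := by rw [card_five]; norm_num
    exact rowE_of_equiv e hs hp h2 (index_psl (by omega) (not_comm_of_ne_prime hp))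
  · have hf : Finite Spor.M11 := Finite.of_equiv X e.toEquiv
    refine rowE_of_equiv e H807.El.simple_M11 (by rw [H807.El.card_M11]; norm_num) h2 ?_
    rw [index_inn Cfsg.Agent.S2060.result]
    norm_num
  · have hf : Finite Spor.M23 := Finite.of_equiv X e.toEquiv
    refine rowE_of_equiv e H729.PairMathieu.simple_M23 (by rw [SporadicA.MathieuRecog.card_M23]; norm_num) h2 ?_
    rw [index_inn Cfsg.Agent.S2063.result]
    norm_num

end Cfsg.Agent.H807.DPi
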